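import Mathlib
import Cfsg.Agent.H154.PQE.Blk
import Cfsg.Agent.LieClassical.SLGen

/-!
# S4612, `E₇(q)`, primes of orders 5 and 10: the parabolic subgroup and its Levi subgroup (helper154)
-/

set_option autoImplicit false
set_option linter.unusedSectionVars false
set_option maxRecDepth 100000

namespace Cfsg.Agent.H154.PQE

open CoxeterSystem Cfsg Cfsg.Lie Cfsg.Lie.ChevalleyDatum
open Cfsg.Agent.ChevalleyStructure Cfsg.Agent.ChevalleyStructure.Elts Cfsg.Agent.ChevalleyStructure.CoxeterGeom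
  Cfsg.Agent.ChevalleyStructure.CoxeterGeomTypes Cfsg.Agent.ChevalleyStructure.RootVec
  Cfsg.Agent.ChevalleyStructure.RootVecTab Cfsg.Agent.ChevalleyStructure.NPerm
open Cfsg.Agent.Tits.Roots Cfsg.Agent.Tits.Core Cfsg.Agent.Nodes Cfsg.Agent.Nodes.Reps Cfsg.Agent.Nodes.BNOf
  Cfsg.Agent.Nodes.RGDChev Cfsg.Agent.H35.ExcIdx Cfsg.Agent.Nodes.StabComb Cfsg.Agent.Nodes.Bruhat
  Cfsg.Agent.Nodes.LeviDec Cfsg.Agent.H739.PQ.E7

open scoped Matrix

universe u

variable {K : Type u} [Field K]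

/-- all nodes but the fifth -/
abbrev JQ : Set (Fin 7) := {j | j ≠ 4}

/-- the parabolic subgroup -/
abbrev QQ (K : Type u) [Field K] : Subgroup ↥(chevE7.group K) := PJ cs7 hpE7.isCartan (TT chevE7 K) (XX chevE7 7 K) JQ

/-- the Levi subgroup -/
abbrev LL (K : Type u) [Field K] : Subgroup ↥(chevE7.group K) := LJ cs7 hpE7.isCartan (TT chevE7 K) (XX chevE7 7 K) JQ

/-- the unipotent radical -/
abbrev VV (K : Type u) [Field K] : Subgroup ↥(chevE7.group K) := VJ cs7 hpE7.isCartan (XX chevE7 7 K) JQ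

theorem lev_RootsJ {x : Fin 7 → ℤ} (hx : x ∈ RootsJ cs7 hpE7.isCartan JQ) : lev x = 0 :=
  hx.2 4 (fun h => h rfl)

theorem mem_RootsJ {x : Fin 7 → ℤ} : x ∈ RootsJ cs7 hpE7.isCartan JQ ↔ IsRoot cs7 hpE7.isCartan x ∧ lev x = 0 := by
  refine ⟨fun h => ⟨h.1, lev_RootsJ h⟩, fun h => ⟨h.1, fun k hk => ?_⟩⟩
  have : k = 4 := by
    by_contra hc
    exact hk hc
  rw [this]
  exact h.2

theorem lev_NotJ {x : Fin 7 → ℤ} (hx : x ∈ NotJ cs7 hpE7.isCartan JQ) : 0 < lev x := by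
  obtain ⟨-, -, k, hk, h0⟩ := hx
  have : k = 4 := by
    by_contra hc
    exact hk hc
  rw [this] at h0
  exact h0

theorem mem_NotJ {x : Fin 7 → ℤ} : x ∈ NotJ cs7 hpE7.isCartan JQ ↔ IsRoot cs7 hpE7.isCartan x ∧ 0 < lev x := by
  refine ⟨fun h => ⟨h.1, lev_NotJ h⟩, fun h => ⟨h.1, nonneg_of_pos_apply h.1 h.2, 4, fun h => h rfl, h.2⟩⟩

theorem LL_le : LL K ≤ FQ K :=
  sup_le TT_le_FQ (RGD.Sup_le fun _ hx => XX_le_FQ hx.1 (lev_RootsJ hx).ge)

theorem VV_le : VV K ≤ FQ K := RGD.Sup_le fun _ hx => XX_le_FQ hx.1 (lev_NotJ hx).le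

theorem QQ_le : QQ K ≤ FQ K := sup_le LL_le VV_le

/-- the action on the five root vectors -/
def rho (K : Type u) [Field K] : ↥(QQ K) →* GL (Fin 5) K := (blk ixo).comp (Subgroup.inclusion QQ_le)

theorem rho_apply (z : ↥(QQ K)) (i j : Fin 5) : (rho K z : Matrix (Fin 5) (Fin 5) K) i j =
    (((z : ↥(chevE7.group K)) : GL chevE7.Idx K) : Matrix chevE7.Idx chevE7.Idx K) (fo i) (fo j) := rfl

/-- the kernel of the action as a subgroup of `G` -/
abbrev KQ (K : Type u) [Field K] : Subgroup ↥(chevE7.group K) := (rho K).ker.map (QQ K).subtype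

theorem mem_KQ {g : ↥(chevE7.group K)} : g ∈ KQ K ↔ ∃ h : g ∈ QQ K, rho K ⟨g, h⟩ = 1 := by
  constructor
  · rintro ⟨z, hz, rfl⟩
    exact ⟨z.2, hz⟩
  · rintro ⟨h, e⟩
    exact ⟨⟨g, h⟩, e, rfl⟩

theorem XX_le_KQ {x : Fin 7 → ℤ} (hx : IsRoot cs7 hpE7.isCartan x) (h0 : 0 < lev x) : XX chevE7 7 K x ≤ KQ K := by
  intro g hg
  have h1 : g ∈ QQ K := VJ_le_PJ ((RGD.le_Sup (S := NotJ cs7 hpE7.isCartan JQ) (mem_NotJ.2 ⟨hx, h0⟩)) hg)
  exact mem_KQ.2 ⟨h1, blk_pos ixo hx h0 hg⟩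

theorem VV_le_KQ : VV K ≤ KQ K := RGD.Sup_le fun _ hx => XX_le_KQ hx.1 (lev_NotJ hx)

/-! ### inverse transpose -/

theorem eq_tau {A B : GL (Fin 5) K} (h : (A : Matrix (Fin 5) (Fin 5) K)ᵀ * (B : Matrix (Fin 5) (Fin 5) K) = 1) :
    B = tau A := by
  have h1 : (tau A)⁻¹ * B = 1 := by
    apply Units.ext
    rw [Units.val_mul, Units.val_one]
    exact h
  rwa [inv_mul_eq_one, eq_comm] at h1

theorem tau_mul (A B : GL (Fin 5) K) : tau (A * B) = tau A * tau B := by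
  symm
  apply eq_tau
  rw [Units.val_mul, Units.val_mul, Matrix.transpose_mul, mul_assoc, ← mul_assoc (A : Matrix (Fin 5) (Fin 5) K)ᵀ]
  have h1 : (A : Matrix (Fin 5) (Fin 5) K)ᵀ * (tau A : Matrix (Fin 5) (Fin 5) K) = 1 := (tau A).inv_val
  have h2 : (B : Matrix (Fin 5) (Fin 5) K)ᵀ * (tau B : Matrix (Fin 5) (Fin 5) K) = 1 := (tau B).inv_val
  rw [h1, one_mul, h2]

/-- inverse transpose as a homomorphism -/
def tauHom (K : Type u) [Field K] : GL (Fin 5) K →* GL (Fin 5) K where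
  toFun := tau
  map_one' := by
    symm
    apply eq_tau
    rw [Units.val_one, Matrix.transpose_one, one_mul]
  map_mul' := tau_mul

/-- diagonal elements: the entries at a root and its negative are inverse to each other -/
theorem torus_neg {g : GL chevE7.Idx K} (hg : g ∈ chevE7.diagonalSubgroup K) :
    ∃ χ : Fin 5 → K, (∀ i j, (g : Matrix chevE7.Idx chevE7.Idx K) (fo i) (fo j) = Matrix.diagonal χ i j) ∧
      ∀ i j, (g : Matrix chevE7.Idx chevE7.Idx K) (fn i) (fn j) = Matrix.diagonal (fun i => (χ i)⁻¹) i j := by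
  have hdiag : ∀ {g : GL chevE7.Idx K}, g ∈ chevE7.diagonalSubgroup K → ∀ i k, i ≠ k →
      (g : Matrix chevE7.Idx chevE7.Idx K) i k = 0 := by
    intro g hg i k hik
    obtain ⟨χ, h⟩ := HMatDiagAll.mem_torus.1 (HMatDiagAll.diagonalSubgroup_le_torus hpE7.inList hg)
    rw [h, Matrix.diagonal_apply_ne _ hik]
  have key : ∀ i, (g : Matrix chevE7.Idx chevE7.Idx K) (fn i) (fn i) =
      ((g : Matrix chevE7.Idx chevE7.Idx K) (fo i) (fo i))⁻¹ := by
    have hmul : ∀ {a b : GL chevE7.Idx K}, a ∈ chevE7.diagonalSubgroup K → ∀ k,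
        ((a * b : GL chevE7.Idx K) : Matrix chevE7.Idx chevE7.Idx K) k k =
          (a : Matrix chevE7.Idx chevE7.Idx K) k k * (b : Matrix chevE7.Idx chevE7.Idx K) k k := by
      intro a b ha k
      rw [Units.val_mul, Matrix.mul_apply, Finset.sum_eq_single k]
      · intro l _ hl
        rw [hdiag ha k l hl.symm, zero_mul]
      · intro h
        exact absurd (Finset.mem_univ _) h
    unfold ChevalleyDatum.diagonalSubgroup at hg
    induction hg using Subgroup.closure_induction with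
    | mem x hx =>
      obtain ⟨r, t, hr, ht, hx⟩ := hx
      intro i
      rw [hx, HMatDiagAll.hMat_eq_diagonal hpE7.inList hr ht]
      rw [Matrix.diagonal_apply_eq, Matrix.diagonal_apply_eq]
      show t ^ HMatDiagAll.expo chevE7 r (ion i) = (t ^ HMatDiagAll.expo chevE7 r (io i))⁻¹
      rw [expo_neg r (by rwa [nroots_eq] at hr) i, zpow_neg]
    | one => intro i; simp
    | mul a b ha hb iha ihb =>
      intro i
      rw [hmul ha, hmul ha, iha, ihb, mul_inv]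
    | inv a ha iha =>
      intro i
      have h1 : ∀ k, (a : Matrix chevE7.Idx chevE7.Idx K) k k *
          ((a⁻¹ : GL chevE7.Idx K) : Matrix chevE7.Idx chevE7.Idx K) k k = 1 := by
        intro k
        rw [← hmul ha, mul_inv_cancel, Units.val_one, Matrix.one_apply_eq]
      have h2 : ∀ k, ((a⁻¹ : GL chevE7.Idx K) : Matrix chevE7.Idx chevE7.Idx K) k k =
          ((a : Matrix chevE7.Idx chevE7.Idx K) k k)⁻¹ := fun k => eq_inv_of_mul_eq_one_right (h1 k)
      rw [h2, h2, iha]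
  refine ⟨fun i => (g : Matrix chevE7.Idx chevE7.Idx K) (fo i) (fo i), fun i j => ?_, fun i j => ?_⟩
  · by_cases hij : i = j
    · rw [hij, Matrix.diagonal_apply_eq]
    · rw [Matrix.diagonal_apply_ne _ hij, hdiag hg _ _ (fun e => hij (ixo.inj e))]
  · by_cases hij : i = j
    · rw [hij, Matrix.diagonal_apply_eq, key]
    · rw [Matrix.diagonal_apply_ne _ hij, hdiag hg _ _ (fun e => hij (ixn.inj e))]

theorem diag_ne_zero {g : GL chevE7.Idx K} (hg : g ∈ chevE7.diagonalSubgroup K) (k : chevE7.Idx) :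
    (g : Matrix chevE7.Idx chevE7.Idx K) k k ≠ 0 := by
  obtain ⟨χ, h⟩ := HMatDiagAll.mem_torus.1 (HMatDiagAll.diagonalSubgroup_le_torus hpE7.inList hg)
  intro h0
  have h1 : ((g * g⁻¹ : GL chevE7.Idx K) : Matrix chevE7.Idx chevE7.Idx K) k k = 1 := by
    rw [mul_inv_cancel, Units.val_one, Matrix.one_apply_eq]
  rw [Units.val_mul, h, Matrix.diagonal_mul] at h1
  rw [h, Matrix.diagonal_apply_eq] at h0
  rw [h0, zero_mul] at h1
  exact zero_ne_one h1

/-- **the blocks of level 3 and -3 of an element of the Levi subgroup are dual to each other** -/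
theorem LL_le_eq : LL K ≤ ((blk (K := K) ixn).eqLocus ((tauHom K).comp (blk ixo))).map (FQ K).subtype := by
  refine sup_le ?_ (RGD.Sup_le fun x hx => ?_)
  · intro g hg
    refine ⟨⟨g, TT_le_FQ hg⟩, ?_, rfl⟩
    refine eq_tau ?_
    obtain ⟨χ, h1, h2⟩ := torus_neg (Subgroup.mem_subgroupOf.1 hg)
    have e1 : (blk ixo ⟨g, TT_le_FQ hg⟩ : Matrix (Fin 5) (Fin 5) K) = Matrix.diagonal χ := by
      ext i j
      exact h1 i j
    have e2 : (blk ixn ⟨g, TT_le_FQ hg⟩ : Matrix (Fin 5) (Fin 5) K) = Matrix.diagonal (fun i => (χ i)⁻¹) := by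
      ext i j
      exact h2 i j
    rw [e1, e2, Matrix.diagonal_transpose, Matrix.diagonal_mul_diagonal, ← Matrix.diagonal_one]
    congr 1
    funext i
    refine mul_inv_cancel₀ ?_
    have h3 := h1 i i
    rw [Matrix.diagonal_apply_eq] at h3
    rw [← h3]
    exact diag_ne_zero (Subgroup.mem_subgroupOf.1 hg) _
  · obtain ⟨⟨r, hr⟩, rfl⟩ := exists_idx hx.1
    have h0 : rt chevE7 r 4 = 0 := lev_RootsJ hx
    intro g hg
    obtain ⟨t, rfl⟩ := (mem_XX hr).1 hg
    have hm := XX_le_FQ hx.1 (lev_RootsJ hx).ge hg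
    refine ⟨⟨xg r t, hm⟩, ?_, rfl⟩
    refine eq_tau ?_
    ext i j
    rw [Matrix.mul_apply]
    have e1 : ∀ i j, (blk ixo ⟨xg r t, hm⟩ : Matrix (Fin 5) (Fin 5) K) i j = (if i = j then 1 else 0) + (cf r i j : K) * t := by
      intro i j
      rw [blk_apply]
      show ((xg r t : GL chevE7.Idx K) : Matrix chevE7.Idx chevE7.Idx K) (fo i) (fo j) = _
      rw [coe_xg hr, x_fo hr h0]
    have e2 : ∀ i j, (blk ixn ⟨xg r t, hm⟩ : Matrix (Fin 5) (Fin 5) K) i j = (if i = j then 1 else 0) - (cf r j i : K) * t := by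
      intro i j
      rw [blk_apply]
      show ((xg r t : GL chevE7.Idx K) : Matrix chevE7.Idx chevE7.Idx K) (fn i) (fn j) = _
      rw [coe_xg hr, x_fn hr h0]
    have e3 : ∑ k, (cf r j k : K) * (cf r k i : K) = 0 := by
      have := cf_sq r (by rwa [nroots_eq] at hr) h0 j i
      exact_mod_cast congrArg (Int.cast : ℤ → K) this
    calc ∑ k, (blk ixo ⟨xg r t, hm⟩ : Matrix (Fin 5) (Fin 5) K)ᵀ i k * (blk ixn ⟨xg r t, hm⟩ : Matrix (Fin 5) (Fin 5) K) k j
        = ∑ k, ((if k = i then 1 else 0) * (if k = j then 1 else 0) - (if k = i then 1 else 0) * ((cf r j k : K) * t) +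
          (if k = j then 1 else 0) * ((cf r k i : K) * t) - t * t * ((cf r j k : K) * (cf r k i : K))) := by
          refine Finset.sum_congr rfl fun k _ => ?_
          rw [Matrix.transpose_apply, e1, e2]
          ring
      _ = (1 : Matrix (Fin 5) (Fin 5) K) i j := by
          rw [Finset.sum_sub_distrib, ← Finset.mul_sum, e3, mul_zero, sub_zero, Finset.sum_add_distrib,
            Finset.sum_sub_distrib]
          simp only [ite_mul, one_mul, zero_mul, Finset.sum_ite_eq', Finset.mem_univ, if_true]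
          rw [Matrix.one_apply]
          ring

theorem blk_tau {z : ↥(chevE7.group K)} (hz : z ∈ LL K) (h1 : z ∈ FQ K) : blk ixn ⟨z, h1⟩ = tau (blk ixo ⟨z, h1⟩) := by
  obtain ⟨z', hz', e⟩ := LL_le_eq hz
  have e' : z' = ⟨z, h1⟩ := Subtype.ext e
  rw [← e']
  exact hz'

/-! ### transvections -/

theorem vec_rij {i j : Fin 5} (hij : i ≠ j) : vec chevE7 7 (io i) = vec chevE7 7 (io j) + vec chevE7 7 (rij i j) := by
  funext k
  exact (rij_spec i j hij).2.2.1 k

theorem rij_mem {i j : Fin 5} (hij : i ≠ j) : vec chevE7 7 (rij i j) ∈ RootsJ cs7 hpE7.isCartan JQ :=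
  mem_RootsJ.2 ⟨isRoot_vec hpE7 cs7 (rij_spec i j hij).1, (rij_spec i j hij).2.1⟩

/-- the root element acting as the transvection `1 + c E_ij` -/
theorem exists_transv {i j : Fin 5} (hij : i ≠ j) (c : K) : ∃ z : ↥(QQ K), (z : ↥(chevE7.group K)) ∈ LL K ∧
    (z : ↥(chevE7.group K)) ∈ XX chevE7 7 K (vec chevE7 7 (rij i j)) ∧
    (rho K z : Matrix (Fin 5) (Fin 5) K) = 1 + Matrix.single i j c := by
  obtain ⟨hr, h0, -, h1, h2⟩ := rij_spec i j hij
  obtain ⟨c', hc'⟩ : ∃ c' : K, (cf (rij i j) i j : K) * c' = c := by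
    rcases h1 with h1 | h1
    · exact ⟨c, by rw [h1]; simp⟩
    · exact ⟨-c, by rw [h1]; simp⟩
  have hm := xg_mem_XX hr c'
  have hL : xg (rij i j) c' ∈ LL K := X_le_LJ (rij_mem hij) hm
  refine ⟨⟨xg (rij i j) c', LJ_le_PJ hL⟩, hL, hm, ?_⟩
  ext a b
  rw [rho_apply]
  show ((xg (rij i j) c' : GL chevE7.Idx K) : Matrix chevE7.Idx chevE7.Idx K) (fo a) (fo b) = _
  rw [coe_xg hr, x_fo hr h0, Matrix.add_apply, Matrix.one_apply]
  congr 1
  by_cases hab : a = i ∧ b = j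
  · obtain ⟨rfl, rfl⟩ := hab
    rw [hc', Matrix.single_apply_same]
  · rw [h2 a b hab, Int.cast_zero, zero_mul, Matrix.single_apply_of_ne]
    rintro ⟨rfl, rfl⟩
    exact hab ⟨rfl, rfl⟩

/-- **the Levi subgroup induces a group containing `SL₅` -/
theorem exists_of_det {g : GL (Fin 5) K} (hg : (g : Matrix (Fin 5) (Fin 5) K).det = 1) :
    ∃ z : ↥(QQ K), (z : ↥(chevE7.group K)) ∈ LL K ∧ rho K z = g := by
  let H : Subgroup (GL (Fin 5) K) := ((LL K).subgroupOf (QQ K)).map (rho K)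
  have h1 : (⊤ : Subgroup (Matrix.SpecialLinearGroup (Fin 5) K)) ≤ H.comap Matrix.SpecialLinearGroup.toGL := by
    rw [← LieClassical.SLGen.closure_transvections, Subgroup.closure_le]
    rintro _ ⟨i, j, hij, c, rfl⟩
    obtain ⟨z, hz, -, e⟩ := exists_transv hij c
    refine ⟨z, hz, Units.ext ?_⟩
    rw [e]
    rfl
  obtain ⟨z, hz, e⟩ := h1 (Subgroup.mem_top ⟨(g : Matrix (Fin 5) (Fin 5) K), hg⟩)
  refine ⟨z, hz, ?_⟩
  rw [e]
  exact Units.ext rfl

end Cfsg.Agent.H154.PQE
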